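import Cfsg.Agent.Lib.SteinerUniq.Cases
import Cfsg.Agent.S0364
import Cfsg.Agent.S0365
import Cfsg.Agent.S0376
import Cfsg.Agent.S0377
import Cfsg.Agent.S0378
import Cfsg.Agent.S0379
import Cfsg.Prelude.Def_Sporadic

/-!
Uniqueness of the Steiner systems S(5,8,24), S(4,7,23), S(3,6,22) and their automorphism groups.
-/

set_option autoImplicit false
set_option linter.unusedSectionVars false

namespace Cfsg.Agent.Lib.SteinerUniq.Final

open Finset Module Cfsg
open Cfsg.Agent.Lib.GolayUnique.Dual Cfsg.Agent.Lib.SteinerUniq.Code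
  Cfsg.Agent.Lib.SteinerUniq.Lift Cfsg.Agent.Lib.SteinerUniq.Cases
  Cfsg.Agent.Lib.Steiner.Basic
open Cfsg.Agent.Lib.Golay.Perm Cfsg.Agent.Lib.Golay.Basic
open scoped Pointwise

variable {α β : Type*} [Fintype α] [DecidableEq α] [Fintype β] [DecidableEq β]
  {B : Set (Finset α)} {B' : Set (Finset β)}

/-! ## Frames -/

theorem exists_framed24 (hα : Fintype.card α = 24) (hB : IsSteinerSystem 5 8 B) :
    ∃ e : α ⊕ Fin 0 ≃ GolayPt, Frame (spanC (lift '' B : Set (Finset (α ⊕ Fin 0)))) e ∧ Framed B e := by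
  have hC := golayLike24 hα hB
  obtain ⟨e, he, -⟩ := exists_frame_normal (by norm_num) hC ⟨Fin.elim0, fun a => a.elim0⟩
  exact ⟨e, he, framed_of_code hB (by simp) (by simp) hC
    (fun c hc => Submodule.subset_span (Set.mem_image_of_mem ind (Set.mem_image_of_mem lift hc))) he⟩

theorem exists_framed23 (hα : Fintype.card α = 23) (hB : IsSteinerSystem 4 7 B) (x : Fin 1 ↪ GolayPt) :
    ∃ e : α ⊕ Fin 1 ≃ GolayPt, Frame (spanC (lift '' B : Set (Finset (α ⊕ Fin 1)))) e ∧ Framed B e
      ∧ ∀ j, e (Sum.inr j) = x j := by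
  have hC := golayLike23 hα hB
  obtain ⟨e, he, hx⟩ := exists_frame_normal (by norm_num) hC x
  exact ⟨e, he, framed_of_code hB (by simp) (by simp) hC
    (fun c hc => Submodule.subset_span (Set.mem_image_of_mem ind (Set.mem_image_of_mem lift hc))) he, hx⟩

theorem exists_framed22 (hα : Fintype.card α = 22) (hB : IsSteinerSystem 3 6 B) (x : Fin 2 ↪ GolayPt) :
    ∃ (V : Finset α) (e : α ⊕ Fin 2 ≃ GolayPt), V.card = 7 ∧ (∀ b ∈ B, Odd (V ∩ b).card) ∧
      Frame (spanC (gens22 B V)) e ∧ Framed B e ∧ ∀ j, e (Sum.inr j) = x j := by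
  obtain ⟨V, hV7, hV⟩ := exists_seven hα hB
  have hC := golayLike22 hα hB hV7 hV
  obtain ⟨e, he, hx⟩ := exists_frame_normal (by norm_num) hC x
  exact ⟨V, e, hV7, hV, he, framed_of_code hB (by simp) (by simp) hC
    (fun c hc => Submodule.subset_span (Set.mem_image_of_mem ind
      (Or.inl (Set.mem_image_of_mem lift hc)))) he, hx⟩

/-! ## Uniqueness -/

theorem unique24 (hα : Fintype.card α = 24) (hβ : Fintype.card β = 24) (hB : IsSteinerSystem 5 8 B)
    (hB' : IsSteinerSystem 5 8 B') : SetSystemIso B B' := by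
  obtain ⟨e, -, hF⟩ := exists_framed24 hα hB
  obtain ⟨e', -, hF'⟩ := exists_framed24 hβ hB'
  exact iso_of_framed hF hF' (fun j => j.elim0)

/-- A point of the model. -/
def x1 : Fin 1 ↪ GolayPt := ⟨fun _ => none, fun a b _ => Subsingleton.elim a b⟩

/-- Two points of the model. -/
def x2 : Fin 2 ↪ GolayPt := ⟨![none, some 0], by decide⟩

theorem unique23 (hα : Fintype.card α = 23) (hβ : Fintype.card β = 23) (hB : IsSteinerSystem 4 7 B)
    (hB' : IsSteinerSystem 4 7 B') : SetSystemIso B B' := by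
  obtain ⟨e, -, hF, hx⟩ := exists_framed23 hα hB x1
  obtain ⟨e', -, hF', hx'⟩ := exists_framed23 hβ hB' x1
  exact iso_of_framed hF hF' (fun j => by rw [hx, hx'])

theorem unique22 (hα : Fintype.card α = 22) (hβ : Fintype.card β = 22) (hB : IsSteinerSystem 3 6 B)
    (hB' : IsSteinerSystem 3 6 B') : SetSystemIso B B' := by
  obtain ⟨-, e, -, -, -, hF, hx⟩ := exists_framed22 hα hB x2
  obtain ⟨-, e', -, -, -, hF', hx'⟩ := exists_framed22 hβ hB' x2
  exact iso_of_framed hF hF' (fun j => by rw [hx, hx'])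

/-! ## Automorphisms -/

section Aut

variable {m : ℕ}

theorem image_sumCongr (g : Equiv.Perm α) (b : Finset α) :
    (lift b : Finset (α ⊕ Fin m)).image (Equiv.sumCongr g (Equiv.refl (Fin m))) = lift (g • b) := by
  ext x
  rcases x with a | j
  · simp only [mem_image, lift, inl_mem_disjSum, Finset.mem_smul_finset]
    constructor
    · rintro ⟨z, hz, hzy⟩
      rcases z with a' | j
      · refine ⟨a', inl_mem_disjSum.mp hz, ?_⟩
        simpa using hzy
      · simp at hzy
    · rintro ⟨a', ha', rfl⟩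
      exact ⟨Sum.inl a', inl_mem_disjSum.mpr ha', by simp⟩
  · simp only [mem_image, lift, inr_mem_disjSum, mem_univ, iff_true]
    exact ⟨Sum.inr j, inr_mem_disjSum.mpr (mem_univ _), by simp⟩

theorem aut_le_H {e : α ⊕ Fin m ≃ GolayPt}
    (he : Frame (spanC (lift '' B : Set (Finset (α ⊕ Fin m)))) e) : setSystemAut B ≤ H e := by
  intro g hg
  show Theta e g ∈ M24
  apply conj_mem_M24 he (Equiv.sumCongr g (Equiv.refl (Fin m)))
  rintro _ ⟨b, hb, rfl⟩
  rw [image_sumCongr]
  exact Submodule.subset_span (Set.mem_image_of_mem ind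
    (Set.mem_image_of_mem lift ((mem_aut_iff.mp hg b).mpr hb)))

theorem exists_H_map {n : ℕ} (hnm : n + m ≤ 5) (e : α ⊕ Fin m ≃ GolayPt) (x y : Fin n ↪ α) :
    ∃ g ∈ H e, ∀ i, g (x i) = y i := by
  let X : Fin (n + m) ↪ GolayPt := finSumFinEquiv.symm.toEmbedding.trans
    ((x.sumMap (Function.Embedding.refl _)).trans e.toEmbedding)
  let Y : Fin (n + m) ↪ GolayPt := finSumFinEquiv.symm.toEmbedding.trans
    ((y.sumMap (Function.Embedding.refl _)).trans e.toEmbedding)
  obtain ⟨σ, hσ, h⟩ := exists_M24_tuple hnm X Y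
  have hj : ∀ j, σ (e (Sum.inr j)) = e (Sum.inr j) := by
    intro j
    have := h (Fin.natAdd n j)
    simpa [X, Y] using this
  have hT := Theta_unTheta e σ hj
  refine ⟨unTheta e σ hj, ?_, fun i => ?_⟩
  · show Theta e _ ∈ M24
    rwa [hT]
  · have h1 := h (Fin.castAdd m i)
    have h2 : σ (e (Sum.inl (x i))) = e (Sum.inl (y i)) := by
      simpa [X, Y] using h1
    have h3 := Theta_inl e (unTheta e σ hj) (x i)
    rw [hT, h2] at h3
    have h4 := e.injective h3
    exact (Sum.inl_injective h4).symm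

theorem multiply_of_H {n : ℕ} (hnm : n + m ≤ 5) (e : α ⊕ Fin m ≃ GolayPt) (G : Subgroup (Equiv.Perm α))
    (hG : H e ≤ G) : MulAction.IsMultiplyPretransitive G α n := by
  refine ⟨fun x y => ?_⟩
  obtain ⟨g, hg, h⟩ := exists_H_map hnm e x y
  refine ⟨⟨g, hG hg⟩, ?_⟩
  ext i
  exact h i

end Aut

/-- The automorphism group of a Steiner system S(5,8,24). -/
theorem aut24 (hα : Fintype.card α = 24) (hB : IsSteinerSystem 5 8 B) :
    IsM24 (setSystemAut B) ∧ MulAction.IsMultiplyPretransitive (setSystemAut B) α 5 := by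
  obtain ⟨e, he, hF⟩ := exists_framed24 hα hB
  have heq : setSystemAut B = H e := le_antisymm (aut_le_H he) (H_le_aut hF)
  have hK : K e = M24 := by
    ext x
    exact ⟨fun h => h.1, fun h => ⟨h, fun j => j.elim0⟩⟩
  let φ : setSystemAut B ≃* M24 :=
    (MulEquiv.subgroupCongr heq).trans ((equivK e).trans (MulEquiv.subgroupCongr hK))
  have : IsSimpleGroup M24 := Cfsg.Agent.S0365.result
  refine ⟨⟨φ.isSimpleGroup, ?_⟩, multiply_of_H (m := 0) (by norm_num) e _ heq.ge⟩
  rw [Nat.card_congr φ.toEquiv]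
  exact Cfsg.Agent.S0364.result

/-- The fixer of one point is the point stabiliser. -/
noncomputable def equivK1 (e : α ⊕ Fin 1 ≃ GolayPt) :
    K e ≃* MulAction.stabilizer M24 (e (Sum.inr 0)) :=
  (mapEquiv M24 (MulAction.stabilizer M24 (e (Sum.inr 0))) (K e) (by
    intro x
    constructor
    · rintro ⟨h1, h2⟩
      exact ⟨h1, h2 0⟩
    · rintro ⟨h1, h2⟩
      refine ⟨h1, fun j => ?_⟩
      rw [Subsingleton.elim j 0]
      exact h2)).symm

/-- The automorphism group of a Steiner system S(4,7,23). -/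
theorem aut23 (hα : Fintype.card α = 23) (hB : IsSteinerSystem 4 7 B) :
    IsM23 (setSystemAut B) ∧ MulAction.IsMultiplyPretransitive (setSystemAut B) α 4 := by
  obtain ⟨e, he, hF, -⟩ := exists_framed23 hα hB x1
  have heq : setSystemAut B = H e := le_antisymm (aut_le_H he) (H_le_aut hF)
  let φ : setSystemAut B ≃* MulAction.stabilizer M24 (e (Sum.inr 0)) :=
    (MulEquiv.subgroupCongr heq).trans ((equivK e).trans (equivK1 e))
  have : IsSimpleGroup (MulAction.stabilizer M24 (e (Sum.inr 0))) := Cfsg.Agent.S0377.result _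
  refine ⟨⟨φ.isSimpleGroup, ?_⟩, multiply_of_H (m := 1) (by norm_num) e _ heq.ge⟩
  rw [Nat.card_congr φ.toEquiv]
  exact Cfsg.Agent.S0376.result _

/-- The fixer of two points. -/
noncomputable def equivK2 (e : α ⊕ Fin 2 ≃ GolayPt) :
    K e ≃* ↥(MulAction.stabilizer M24 (e (Sum.inr 0)) ⊓ MulAction.stabilizer M24 (e (Sum.inr 1))) :=
  (mapEquiv M24 (MulAction.stabilizer M24 (e (Sum.inr 0)) ⊓ MulAction.stabilizer M24 (e (Sum.inr 1)))
    (K e) (by
    intro x
    constructor
    · rintro ⟨h1, h2⟩
      exact ⟨h1, h2 0, h2 1⟩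
    · rintro ⟨h1, h2, h3⟩
      refine ⟨h1, fun j => ?_⟩
      fin_cases j
      · exact h2
      · exact h3)).symm

section Aut22

variable {V : Finset α}

/-- The swap of the two extra points. -/
def tau : Equiv.Perm (α ⊕ Fin 2) := Equiv.sumCongr (Equiv.refl α) (Equiv.swap 0 1)

/-- The swap of the two extra points, in the model. -/
def capT (e : α ⊕ Fin 2 ≃ GolayPt) : Equiv.Perm GolayPt := e.symm.trans (tau.trans e)

theorem capT_inl (e : α ⊕ Fin 2 ≃ GolayPt) (a : α) : capT e (e (Sum.inl a)) = e (Sum.inl a) := by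
  simp only [capT, Equiv.trans_apply, Equiv.symm_apply_apply]
  rfl

theorem capT_inr (e : α ⊕ Fin 2 ≃ GolayPt) (j : Fin 2) :
    capT e (e (Sum.inr j)) = e (Sum.inr (Equiv.swap 0 1 j)) := by
  simp only [capT, Equiv.trans_apply, Equiv.symm_apply_apply]
  rfl

theorem Theta_mul_capT (e : α ⊕ Fin 2 ≃ GolayPt) (g : Equiv.Perm α) :
    Theta e g * capT e = e.symm.trans ((Equiv.sumCongr g (Equiv.swap 0 1)).trans e) := by
  refine Equiv.ext fun x => ?_
  obtain ⟨z, rfl⟩ := e.surjective x
  rcases z with a | j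
  · rw [Equiv.Perm.mul_apply, capT_inl, Theta_inl]
    simp only [Equiv.trans_apply, Equiv.symm_apply_apply]
    rfl
  · rw [Equiv.Perm.mul_apply, capT_inr, Theta_inr]
    simp only [Equiv.trans_apply, Equiv.symm_apply_apply]
    rfl

theorem capT_commute (e : α ⊕ Fin 2 ≃ GolayPt) (g : Equiv.Perm α) :
    capT e * Theta e g = Theta e g * capT e := by
  refine Equiv.ext fun x => ?_
  obtain ⟨z, rfl⟩ := e.surjective x
  rcases z with a | j
  · rw [Equiv.Perm.mul_apply, Equiv.Perm.mul_apply, capT_inl, Theta_inl, capT_inl]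
  · rw [Equiv.Perm.mul_apply, Equiv.Perm.mul_apply, capT_inr, Theta_inr, Theta_inr, capT_inr]

theorem capT_sq (e : α ⊕ Fin 2 ≃ GolayPt) : capT e * capT e = 1 := by
  refine Equiv.ext fun x => ?_
  obtain ⟨z, rfl⟩ := e.surjective x
  rcases z with a | j
  · rw [Equiv.Perm.mul_apply, capT_inl, capT_inl]
    rfl
  · rw [Equiv.Perm.mul_apply, capT_inr, capT_inr, Equiv.swap_apply_self]
    rfl

theorem image_sumCongr_swap (g : Equiv.Perm α) (b : Finset α) :
    (lift b : Finset (α ⊕ Fin 2)).image (Equiv.sumCongr g (Equiv.swap 0 1)) = lift (g • b) := by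
  ext x
  rcases x with a | j
  · simp only [mem_image, lift, inl_mem_disjSum, Finset.mem_smul_finset]
    constructor
    · rintro ⟨z, hz, hzy⟩
      rcases z with a' | j
      · refine ⟨a', inl_mem_disjSum.mp hz, ?_⟩
        simpa using hzy
      · simp at hzy
    · rintro ⟨a', ha', rfl⟩
      exact ⟨Sum.inl a', inl_mem_disjSum.mpr ha', by simp⟩
  · simp only [mem_image, lift, inr_mem_disjSum, mem_univ, iff_true]
    exact ⟨Sum.inr (Equiv.swap 0 1 j), inr_mem_disjSum.mpr (mem_univ _), by simp⟩

theorem image_vhat (g : Equiv.Perm α) :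
    (vhat V).image (Equiv.sumCongr g (Equiv.refl (Fin 2))) = vhat (g • V) := by
  ext x
  rcases x with a | j
  · simp only [mem_image, vhat, inl_mem_disjSum, Finset.mem_smul_finset]
    constructor
    · rintro ⟨z, hz, hzy⟩
      rcases z with a' | j
      · refine ⟨a', inl_mem_disjSum.mp hz, ?_⟩
        simpa using hzy
      · simp at hzy
    · rintro ⟨a', ha', rfl⟩
      exact ⟨Sum.inl a', inl_mem_disjSum.mpr ha', by simp⟩
  · simp only [mem_image, vhat, inr_mem_disjSum, mem_singleton]
    constructor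
    · rintro ⟨z, hz, hzy⟩
      rcases z with a' | j'
      · simp at hzy
      · simp only [Equiv.sumCongr_apply, Sum.map_inr, Equiv.refl_apply, Sum.inr.injEq] at hzy
        subst hzy
        simpa using inr_mem_disjSum.mp hz
    · rintro rfl
      exact ⟨Sum.inr 0, inr_mem_disjSum.mpr (mem_singleton_self _), by simp⟩

theorem image_vhat_swap (g : Equiv.Perm α) :
    (vhat V).image (Equiv.sumCongr g (Equiv.swap 0 1)) = (g • V).disjSum {1} := by
  ext x
  rcases x with a | j
  · simp only [mem_image, vhat, inl_mem_disjSum, Finset.mem_smul_finset]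
    constructor
    · rintro ⟨z, hz, hzy⟩
      rcases z with a' | j
      · refine ⟨a', inl_mem_disjSum.mp hz, ?_⟩
        simpa using hzy
      · simp at hzy
    · rintro ⟨a', ha', rfl⟩
      exact ⟨Sum.inl a', inl_mem_disjSum.mpr ha', by simp⟩
  · simp only [mem_image, vhat, inr_mem_disjSum, mem_singleton]
    constructor
    · rintro ⟨z, hz, hzy⟩
      rcases z with a' | j'
      · simp at hzy
      · simp only [Equiv.sumCongr_apply, Sum.map_inr, Sum.inr.injEq] at hzy
        have : j' = 0 := by simpa using inr_mem_disjSum.mp hz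
        subst this
        rw [← hzy]
        simp
    · rintro rfl
      exact ⟨Sum.inr 0, inr_mem_disjSum.mpr (mem_singleton_self _), by simp⟩


variable (hα : Fintype.card α = 22) (hB : IsSteinerSystem 3 6 B) (hV7 : V.card = 7)
  (hV : ∀ b ∈ B, Odd (V ∩ b).card)
include hα hB hV7 hV

theorem mem_span22 {W : Finset (α ⊕ Fin 2)} (hW : Perp (gens22 B V) W) : ind W ∈ spanC (gens22 B V) :=
  mem_span_of_perp (gens_even hα hB hV7 hV)
    (fun W => W.toLeft.card + if Even W.toRight.card then 0 else 30) (reduce22 hα hB hV7 hV) W hW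

theorem odd_smul {g : Equiv.Perm α} (hg : g ∈ setSystemAut B) {b : Finset α} (hb : b ∈ B) :
    Odd ((g • V) ∩ b).card := by
  have h1 := hV (g⁻¹ • b) ((mem_aut_iff.mp (inv_mem hg) b).mpr hb)
  have h2 : (g • V) ∩ b = g • (V ∩ (g⁻¹ • b)) := by
    rw [Finset.smul_finset_inter, smul_inv_smul]
  rw [h2, Finset.card_smul_finset]
  exact h1

/-- Every automorphism of the system extends to the code, with or without the swap. -/
theorem lift_or {e : α ⊕ Fin 2 ≃ GolayPt} (he : Frame (spanC (gens22 B V)) e) {g : Equiv.Perm α}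
    (hg : g ∈ setSystemAut B) : Theta e g ∈ M24 ∨ Theta e g * capT e ∈ M24 := by
  have hlift : ∀ (b : Finset α), b ∈ B → ind (lift (g • b) : Finset (α ⊕ Fin 2)) ∈ spanC (gens22 B V) :=
    fun b hb => Submodule.subset_span (Set.mem_image_of_mem ind
      (Or.inl (Set.mem_image_of_mem lift ((mem_aut_iff.mp hg b).mpr hb))))
  by_cases hpar : Odd ((g • V) ∩ V).card
  · left
    show e.symm.trans ((Equiv.sumCongr g (Equiv.refl (Fin 2))).trans e) ∈ M24
    apply conj_mem_M24 he
    rintro _ (⟨b, hb, rfl⟩ | hgv)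
    · rw [image_sumCongr]
      exact hlift b hb
    · rw [Set.mem_singleton_iff.mp hgv, image_vhat]
      apply mem_span22 hα hB hV7 hV
      rintro _ (⟨b, hb, rfl⟩ | hgv')
      · rw [card_inter_lift]
        have h1 := odd_smul hα hB hV7 hV hg hb
        have h2 : (vhat (g • V)).toRight.card = 1 := by
          rw [vhat, toRight_disjSum, card_singleton]
        have h3 : (vhat (g • V)).toLeft = g • V := by
          rw [vhat, toLeft_disjSum]
        rw [h2, h3]
        exact h1.add_one
      · rw [Set.mem_singleton_iff.mp hgv', vhat, vhat, card_inter_disjSum, toLeft_disjSum,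
          toRight_disjSum, inter_self, card_singleton]
        exact hpar.add_one
  · right
    rw [Theta_mul_capT]
    apply conj_mem_M24 he
    rintro _ (⟨b, hb, rfl⟩ | hgv)
    · rw [image_sumCongr_swap]
      exact hlift b hb
    · rw [Set.mem_singleton_iff.mp hgv, image_vhat_swap]
      apply mem_span22 hα hB hV7 hV
      rintro _ (⟨b, hb, rfl⟩ | hgv')
      · rw [card_inter_lift, toLeft_disjSum, toRight_disjSum, card_singleton]
        exact (odd_smul hα hB hV7 hV hg hb).add_one
      · rw [Set.mem_singleton_iff.mp hgv', vhat, card_inter_disjSum, toLeft_disjSum,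
          toRight_disjSum]
        have h4 : ({1} ∩ {0} : Finset (Fin 2)) = ∅ := by decide
        rw [h4, card_empty, add_zero]
        exact Nat.not_odd_iff_even.mp hpar

theorem capT_not_mem {e : α ⊕ Fin 2 ≃ GolayPt} (he : Frame (spanC (gens22 B V)) e) :
    capT e ∉ M24 := by
  intro hT
  have hC := golayLike22 hα hB hV7 hV
  have h1 : ind (vhat V) ∈ spanC (gens22 B V) :=
    Submodule.subset_span (Set.mem_image_of_mem ind (Or.inr rfl))
  -- the word of the model
  have h2 : ind ((vhat V).image e) ∈ golayCode := by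
    rw [he, ind_image]
    exact h1
  have h3 := comp_mem hT h2
  rw [he] at h3
  have h4 : (fun z => (ind ((vhat V).image e) ∘ (capT e)) (e z)) = ind (V.disjSum {1}) := by
    funext z
    simp only [Function.comp]
    rcases z with a | j
    · rw [capT_inl]
      simp [ind, vhat]
    · rw [capT_inr]
      fin_cases j <;> simp [ind, vhat]
  rw [h4] at h3
  have h5 := Submodule.add_mem _ h1 h3
  rw [← ind_symmDiff] at h5
  have h6 : symmDiff (vhat V) (V.disjSum {1}) = (∅ : Finset α).disjSum univ := by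
    ext x
    rcases x with a | j
    · simp [Finset.mem_symmDiff, vhat]
    · fin_cases j <;> simp [Finset.mem_symmDiff, vhat]
  rw [h6] at h5
  have h7 := eq_empty_of_card_lt hC h5 (by simp)
  have h8 : ((∅ : Finset α).disjSum (univ : Finset (Fin 2))).card = 2 := by simp
  rw [h7] at h8
  simp at h8

end Aut22

/-- The automorphism group of a Steiner system S(3,6,22). -/
theorem aut22 (hα : Fintype.card α = 22) (hB : IsSteinerSystem 3 6 B) :
    Nat.card (setSystemAut B) = 887040 ∧ MulAction.IsMultiplyPretransitive (setSystemAut B) α 3 ∧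
      ∃ H' : Subgroup (setSystemAut B), H'.index = 2 ∧ IsM22 H' := by
  obtain ⟨V, e, hV7, hV, he, hF, hx⟩ := exists_framed22 hα hB x2
  have hle := H_le_aut hF
  let H' : Subgroup (setSystemAut B) := (H e).subgroupOf (setSystemAut B)
  have hmemH : ∀ g : setSystemAut B, g ∈ H' ↔ Theta e g.1 ∈ M24 := fun g => Iff.rfl
  have hpq : e (Sum.inr 0) ≠ e (Sum.inr 1) := by
    intro h
    have := e.injective h
    simp at this
  -- an automorphism outside `H'`
  obtain ⟨a, ha⟩ : ∃ a : setSystemAut B, Theta e a.1 * capT e ∈ M24 := by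
    obtain ⟨h, hh, h0, h1⟩ := Cfsg.Agent.Lib.Golay.Stab.exists_map_two hpq hpq.symm
    have hj : ∀ j, (h * capT e) (e (Sum.inr j)) = e (Sum.inr j) := by
      intro j
      rw [Equiv.Perm.mul_apply, capT_inr]
      fin_cases j
      · show h (e (Sum.inr (Equiv.swap 0 1 0))) = e (Sum.inr 0)
        rw [Equiv.swap_apply_left, h1]
      · show h (e (Sum.inr (Equiv.swap 0 1 1))) = e (Sum.inr 1)
        rw [Equiv.swap_apply_right, h0]
    have hT := Theta_unTheta e (h * capT e) hj
    have hfix : ∀ b : Finset α, capT e • (lift b).image e = (lift b).image e := by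
      intro b
      ext x
      rw [Finset.mem_smul_finset]
      constructor
      · rintro ⟨y, hy, rfl⟩
        obtain ⟨z, hz, rfl⟩ := Finset.mem_image.mp hy
        rcases z with a | j
        · rw [Equiv.Perm.smul_def, capT_inl]
          exact hy
        · rw [Equiv.Perm.smul_def, capT_inr]
          apply Finset.mem_image_of_mem
          simp [lift]
      · intro hx
        refine ⟨capT e x, ?_, ?_⟩
        · obtain ⟨z, hz, rfl⟩ := Finset.mem_image.mp hx
          rcases z with a | j
          · rw [capT_inl]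
            exact hx
          · rw [capT_inr]
            apply Finset.mem_image_of_mem
            simp [lift]
        · rw [Equiv.Perm.smul_def, ← Equiv.Perm.mul_apply, capT_sq]
          rfl
    refine ⟨⟨unTheta e (h * capT e) hj, ?_⟩, ?_⟩
    · rw [mem_aut_iff]
      intro b
      rw [hF b, hF _, ← smul_lift, hT, mul_smul, hfix, Cfsg.Agent.Lib.Golay.Perm.smul_mem_octads_iff hh]
    · show Theta e (unTheta e (h * capT e) hj) * capT e ∈ M24
      rw [hT, mul_assoc, capT_sq, mul_one]
      exact hh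
  have hTnot := capT_not_mem hα hB hV7 hV he
  have hindex : H'.index = 2 := by
    rw [Subgroup.index_eq_two_iff]
    refine ⟨a, fun b => ?_⟩
    have hmul : Theta e (b * a).1 = Theta e b.1 * Theta e a.1 := map_mul _ _ _
    by_cases hb : b ∈ H'
    · refine Or.inr ⟨hb, fun hba => hTnot ?_⟩
      have h1 : Theta e a.1 ∈ M24 := by
        have h2 : Theta e (b * a).1 ∈ M24 := hba
        rw [hmul] at h2
        exact (Subgroup.mul_mem_cancel_left M24 (show Theta e b.1 ∈ M24 from hb)).mp h2
      exact (Subgroup.mul_mem_cancel_left M24 h1).mp ha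
    · refine Or.inl ⟨?_, hb⟩
      have h1 : Theta e b.1 * capT e ∈ M24 := by
        rcases lift_or hα hB hV7 hV he b.2 with h | h
        · exact absurd h hb
        · exact h
      show Theta e (b * a).1 ∈ M24
      rw [hmul]
      have h2 : Theta e b.1 * Theta e a.1 = (Theta e b.1 * capT e) * (Theta e a.1 * capT e) := by
        calc Theta e b.1 * Theta e a.1 = Theta e b.1 * (Theta e a.1 * (capT e * capT e)) := by
              rw [capT_sq, mul_one]
          _ = Theta e b.1 * (capT e * Theta e a.1 * capT e) := by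
              rw [capT_commute, mul_assoc]
          _ = _ := by simp only [mul_assoc]
      rw [h2]
      exact M24.mul_mem h1 ha
  let φ : H' ≃* ↥(MulAction.stabilizer M24 (e (Sum.inr 0)) ⊓ MulAction.stabilizer M24 (e (Sum.inr 1))) :=
    (Subgroup.subgroupOfEquivOfLe hle).trans ((equivK e).trans (equivK2 e))
  have hcard : Nat.card H' = 443520 := by
    rw [Nat.card_congr φ.toEquiv]
    exact Cfsg.Agent.S0378.result _ _ hpq
  have hsimple : IsSimpleGroup ↥(MulAction.stabilizer M24 (e (Sum.inr 0)) ⊓ MulAction.stabilizer M24 (e (Sum.inr 1))) :=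
    Cfsg.Agent.S0379.result _ _ hpq
  refine ⟨?_, multiply_of_H (m := 2) (by norm_num) e _ hle, H', hindex, φ.isSimpleGroup, hcard⟩
  rw [← Subgroup.index_mul_card H', hindex, hcard]

end Cfsg.Agent.Lib.SteinerUniq.Final
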