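import Cfsg.Agent.Lib.SteinerUniq.Lift
import Cfsg.Agent.Lib.Steiner.Moments
import Cfsg.Agent.Lib.Golay.Orbits

/-!
The Steiner systems S(5,8,24), S(4,7,23) and S(3,6,22): the code spanned by the lifted blocks
(with a further generator in the last case) has the parameters of the Golay code, and its octads
containing the extra points are the lifted blocks.
-/

set_option autoImplicit false
set_option linter.unusedSectionVars false

namespace Cfsg.Agent.Lib.SteinerUniq.Cases

open Finset Module Cfsg
open Cfsg.Agent.Lib.GolayUnique.Dual Cfsg.Agent.Lib.SteinerUniq.Code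
  Cfsg.Agent.Lib.SteinerUniq.Lift Cfsg.Agent.Lib.Steiner.Basic Cfsg.Agent.Lib.Steiner.Moments
open Cfsg.Agent.Lib.Golay.Perm

variable {α J : Type*} [Fintype α] [DecidableEq α] [Fintype J] [DecidableEq J]
  {t k : ℕ} {B : Set (Finset α)}

theorem card_inter_disjSum (W : Finset (α ⊕ J)) (s : Finset α) (u : Finset J) :
    (W ∩ s.disjSum u).card = (W.toLeft ∩ s).card + (W.toRight ∩ u).card := by
  rw [← card_toLeft_add_card_toRight (u := W ∩ s.disjSum u), toLeft_inter, toRight_inter,
    toLeft_disjSum, toRight_disjSum]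

theorem inter_parity (hB : IsSteinerSystem t k B) (htk : t ≤ k) {b c : Finset α} (hb : b ∈ B)
    (hc : c ∈ B) (j : ℕ)
    (hdec : ∀ i ≤ k, tri (Fintype.card α) k t i (k - i) ≠ 0 → Even (i + j)) :
    Even ((b ∩ c).card + j) := by
  refine hdec _ ?_ (fun h => inter_card_ne_of_tri_eq_zero hB htk hb hc h)
  rw [← hB.1 b hb]
  exact card_le_card inter_subset_left

theorem even_lift_inter {b c : Finset α} (h : Even ((b ∩ c).card + Fintype.card J)) :
    Even ((lift b ∩ lift c : Finset (α ⊕ J))).card := by
  rw [card_inter_lift]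
  simpa [lift] using h

theorem perp_lift_iff {W : Finset (α ⊕ J)} (hW : Perp (lift '' B : Set (Finset (α ⊕ J))) W) {c : Finset α}
    (hc : c ∈ B) : Even ((W.toLeft ∩ c).card + W.toRight.card) := by
  have := hW _ (Set.mem_image_of_mem lift hc)
  rwa [card_inter_lift] at this

theorem card_toLeft_symmDiff (W : Finset (α ⊕ J)) (c : Finset α) :
    (symmDiff W (lift c)).toLeft.card + 2 * (W.toLeft ∩ c).card = W.toLeft.card + c.card := by
  rw [toLeft_symmDiff, toLeft_lift]
  exact card_symmDiff_add _ _

theorem eq_empty_of_cards {W : Finset (α ⊕ J)} (h1 : W.toLeft = ∅) (h2 : W.toRight = ∅) : W = ∅ := by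
  rw [← toLeft_disjSum_toRight (u := W), h1, h2]
  simp

/-- A word of the code with the size of a lifted block, with the extra points, is a lifted block. -/
theorem mem_of_word (hB : IsSteinerSystem t k B)
    (htJ : t + Fintype.card J = 5)
    (hk : k + Fintype.card J = 8) {C : Submodule (ZMod 2) (α ⊕ J → ZMod 2)} (hC : GolayLike C)
    (hgen : ∀ c ∈ B, ind (lift c : Finset (α ⊕ J)) ∈ C) (b : Finset α)
    (hcard : (lift b : Finset (α ⊕ J)).card = 8) (hb : ind (lift b : Finset (α ⊕ J)) ∈ C) : b ∈ B := by
  have hbk : b.card = k := by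
    rw [card_lift] at hcard
    omega
  obtain ⟨s, hsb, hs⟩ := Finset.exists_subset_card_eq (n := t) (s := b) (by omega)
  obtain ⟨c, ⟨hc, hsc⟩, -⟩ := hB.2 s hs
  have h1 := Submodule.add_mem _ hb (hgen c hc)
  rw [← ind_symmDiff] at h1
  have h2 := card_symmDiff_add (lift b : Finset (α ⊕ J)) (lift c)
  have h3 : s.card ≤ (b ∩ c).card := card_le_card (subset_inter hsb hsc)
  have h4 : (lift b ∩ lift c : Finset (α ⊕ J)).card = (b ∩ c).card + Fintype.card J := by
    rw [card_inter_lift]
    simp [lift]
  have h5 : (lift c : Finset (α ⊕ J)).card = 8 := by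
    rw [card_lift, hB.1 c hc, hk]
  have h6 := eq_empty_of_card_lt hC h1 (by omega)
  have h7 : (lift b : Finset (α ⊕ J)) = lift c := symmDiff_eq_bot.mp h6
  rw [lift_injective h7]
  exact hc

theorem framed_of_code (hB : IsSteinerSystem t k B)
    (htJ : t + Fintype.card J = 5)
    (hk : k + Fintype.card J = 8) {C : Submodule (ZMod 2) (α ⊕ J → ZMod 2)} (hC : GolayLike C)
    (hgen : ∀ c ∈ B, ind (lift c : Finset (α ⊕ J)) ∈ C) {e : α ⊕ J ≃ GolayPt} (he : Frame C e) :
    Framed B e := by
  intro b
  rw [image_mem_octads he]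
  constructor
  · intro hb
    refine ⟨?_, hgen b hb⟩
    rw [card_lift, hB.1 b hb, hk]
  · rintro ⟨h8, hb⟩
    exact mem_of_word hB htJ hk hC hgen b h8 hb

theorem frame_trans {Z : Type*} [Fintype Z] [DecidableEq Z] {C : Submodule (ZMod 2) (Z → ZMod 2)}
    {e : Z ≃ GolayPt} (he : Frame C e) {σ : Equiv.Perm GolayPt} (hσ : σ ∈ M24) :
    Frame C (e.trans σ) := by
  intro w
  have h1 := @Cfsg.Agent.Lib.Golay.Orbits.mem_golayCode_comp_symm_iff σ⁻¹ (M24.inv_mem hσ) w
  rw [← h1, he]
  rfl

/-- The frame can be normalised on the extra points. -/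
theorem exists_frame_normal {m : ℕ} (hm : m ≤ 5) {C : Submodule (ZMod 2) (α ⊕ Fin m → ZMod 2)}
    (hC : GolayLike C) (x : Fin m ↪ GolayPt) :
    ∃ e : α ⊕ Fin m ≃ GolayPt, Frame C e ∧ ∀ j, e (Sum.inr j) = x j := by
  obtain ⟨e, he⟩ := exists_equiv hC
  let y : Fin m ↪ GolayPt := ⟨fun j => e (Sum.inr j), fun a b hab => by
    have := e.injective hab
    simpa using this⟩
  obtain ⟨σ, hσ, hσy⟩ := exists_M24_tuple hm y x
  exact ⟨e.trans σ, frame_trans he hσ, fun j => hσy j⟩

theorem card_right_le_one (W : Finset (α ⊕ Fin 1)) : W.toRight.card = 0 ∨ W.toRight.card = 1 := by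
  have := Finset.card_le_univ W.toRight
  simp only [Fintype.card_fin] at this
  omega

section S24

theorem tri24 : ∀ i ≤ 8, tri 24 8 5 i (8 - i) ≠ 0 → Even (i + Fintype.card (Fin 0)) := by
  decide +kernel

variable (hα : Fintype.card α = 24) (hB : IsSteinerSystem 5 8 B)
include hα hB

theorem small24 {W : Finset (α ⊕ Fin 0)} (hW : Perp (lift '' B : Set (Finset (α ⊕ Fin 0))) W)
    (h4 : W.toLeft.card ≤ 4) : W = ∅ := by
  have hr : W.toRight = ∅ := by
    ext j
    exact j.elim0
  apply eq_empty_of_cards _ hr
  by_contra hne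
  obtain ⟨x, hx⟩ := Finset.nonempty_iff_ne_empty.mpr hne
  have hT : ({x} : Finset α) ⊆ W.toLeft := by simpa using hx
  obtain ⟨c, hc, hWc⟩ := exists_block_inter_eq hB (by norm_num) (by omega) (W := W.toLeft)
    (by omega) hT (by
      rw [hα, card_singleton]
      have h1 : W.toLeft.card - 1 ≤ 3 := by omega
      generalize W.toLeft.card - 1 = n at h1
      interval_cases n <;> decide +kernel)
  have := perp_lift_iff hW hc
  rw [hWc, hr] at this
  simp at this

theorem golayLike24 : GolayLike (spanC (lift '' B : Set (Finset (α ⊕ Fin 0)))) := by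
  refine golayLike_span (by simp [hα]) ?_ ?_ (fun W => W.toLeft.card) ?_ ?_
  · rintro _ ⟨b, hb, rfl⟩
    rw [card_lift, hB.1 b hb]
    simp
  · rintro _ ⟨b, hb, rfl⟩ _ ⟨c, hc, rfl⟩
    apply even_lift_inter
    apply inter_parity hB (by norm_num) hb hc
    rw [hα]
    exact tri24
  · intro W hW
    by_cases h4 : W.toLeft.card ≤ 4
    · exact Or.inl (small24 hα hB hW h4)
    · right
      obtain ⟨s, hsW, hs⟩ := Finset.exists_subset_card_eq (n := 5) (s := W.toLeft) (by omega)
      obtain ⟨c, ⟨hc, hsc⟩, -⟩ := hB.2 s hs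
      refine ⟨lift c, Set.mem_image_of_mem lift hc, ?_⟩
      have h1 := card_toLeft_symmDiff W c
      have h2 : 5 ≤ (W.toLeft ∩ c).card := hs ▸ card_le_card (subset_inter hsW hsc)
      rw [hB.1 c hc] at h1
      show (symmDiff W (lift c)).toLeft.card < W.toLeft.card
      omega
  · intro W h4 hW
    have h5 := card_toLeft_add_card_toRight (u := W)
    have h6 : W.toRight = ∅ := by
      ext j
      exact j.elim0
    rw [h6, card_empty] at h5
    have h7 := small24 hα hB hW (by omega)
    rw [h7] at h4
    simp at h4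

end S24

section S23

theorem tri23 : ∀ i ≤ 7, tri 23 7 4 i (7 - i) ≠ 0 → Even (i + Fintype.card (Fin 1)) := by
  decide +kernel

variable (hα : Fintype.card α = 23) (hB : IsSteinerSystem 4 7 B)
include hα hB

/-- With the extra point, a set of at most three other points is impossible. -/
theorem small23a {W : Finset (α ⊕ Fin 1)} (hW : Perp (lift '' B : Set (Finset (α ⊕ Fin 1))) W)
    (hr : W.toRight.card = 1) (h4 : W.toLeft.card ≤ 3) : False := by
  obtain ⟨c, hc, hWc⟩ := exists_block_inter_eq hB (by norm_num) (by omega) (W := W.toLeft)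
    (T := ∅) (by omega) (empty_subset _) (by
      rw [hα, card_empty]
      have h1 : W.toLeft.card - 0 ≤ 3 := by omega
      generalize W.toLeft.card - 0 = n at h1
      interval_cases n <;> decide +kernel)
  have := perp_lift_iff hW hc
  rw [hWc, hr] at this
  simp at this

/-- Without the extra point, a set of at most three other points is empty. -/
theorem small23b {W : Finset (α ⊕ Fin 1)} (hW : Perp (lift '' B : Set (Finset (α ⊕ Fin 1))) W)
    (hr : W.toRight.card = 0) (h4 : W.toLeft.card ≤ 3) : W = ∅ := by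
  apply eq_empty_of_cards _ (card_eq_zero.mp hr)
  by_contra hne
  obtain ⟨x, hx⟩ := Finset.nonempty_iff_ne_empty.mpr hne
  have hT : ({x} : Finset α) ⊆ W.toLeft := by simpa using hx
  obtain ⟨c, hc, hWc⟩ := exists_block_inter_eq hB (by norm_num) (by omega) (W := W.toLeft)
    (by omega) hT (by
      rw [hα, card_singleton]
      have h1 : W.toLeft.card - 1 ≤ 2 := by omega
      generalize W.toLeft.card - 1 = n at h1
      interval_cases n <;> decide +kernel)
  have := perp_lift_iff hW hc
  rw [hWc, hr] at this
  simp at this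

theorem golayLike23 : GolayLike (spanC (lift '' B : Set (Finset (α ⊕ Fin 1)))) := by
  have hG : ∀ g ∈ (lift '' B : Set (Finset (α ⊕ Fin 1))), ∀ g' ∈ (lift '' B : Set (Finset (α ⊕ Fin 1))),
      Even (g ∩ g').card := by
    rintro _ ⟨b, hb, rfl⟩ _ ⟨c, hc, rfl⟩
    apply even_lift_inter
    apply inter_parity hB (by norm_num) hb hc
    rw [hα]
    exact tri23
  refine golayLike_span (by simp [hα]) ?_ hG (fun W => W.toLeft.card) ?_ ?_
  · rintro _ ⟨b, hb, rfl⟩
    rw [card_lift, hB.1 b hb]
    simp
  · intro W hW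
    by_cases h4 : W.toLeft.card ≤ 3
    · rcases card_right_le_one W with hr | hr
      · exact Or.inl (small23b hα hB hW hr h4)
      · exact (small23a hα hB hW hr h4).elim
    · right
      obtain ⟨s, hsW, hs⟩ := Finset.exists_subset_card_eq (n := 4) (s := W.toLeft) (by omega)
      obtain ⟨c, ⟨hc, hsc⟩, -⟩ := hB.2 s hs
      refine ⟨lift c, Set.mem_image_of_mem lift hc, ?_⟩
      have h1 := card_toLeft_symmDiff W c
      have h2 : 4 ≤ (W.toLeft ∩ c).card := hs ▸ card_le_card (subset_inter hsW hsc)
      rw [hB.1 c hc] at h1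
      show (symmDiff W (lift c)).toLeft.card < W.toLeft.card
      omega
  · intro W h4 hW
    have h5 := card_toLeft_add_card_toRight (u := W)
    rcases card_right_le_one W with hr | hr
    · have h6 : W.toLeft.card = 4 := by omega
      obtain ⟨c, ⟨hc, hsc⟩, -⟩ := hB.2 _ h6
      have hW' := perp_symmDiff hG hW (Set.mem_image_of_mem lift hc)
      have h1 := card_toLeft_symmDiff W c
      rw [hB.1 c hc, inter_eq_left.mpr hsc, h6] at h1
      apply small23a hα hB hW' _ (by omega)
      rw [toRight_symmDiff]
      have : (lift c : Finset (α ⊕ Fin 1)).toRight = univ := by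
        ext j
        simp [lift]
      rw [this, card_eq_zero.mp hr]
      decide
    · exact small23a hα hB hW hr (by omega)

end S23

section S22

/-- The further generator: a set with one of the two extra points. -/
def vhat (V : Finset α) : Finset (α ⊕ Fin 2) := V.disjSum {0}

/-- All the generators. -/
def gens22 (B : Set (Finset α)) (V : Finset α) : Set (Finset (α ⊕ Fin 2)) := lift '' B ∪ {vhat V}

theorem tri22 : ∀ i ≤ 6, tri 22 6 3 i (6 - i) ≠ 0 → Even (i + Fintype.card (Fin 2)) := by
  decide +kernel

theorem tri22' : ∀ i ≤ 6, tri 22 6 3 i (6 - i) ≠ 0 → Even (i + 0) := by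
  decide +kernel

variable (hα : Fintype.card α = 22) (hB : IsSteinerSystem 3 6 B)
include hα hB

theorem even_inter22 : ∀ g ∈ B, ∀ g' ∈ B, Even (g ∩ g').card := by
  intro g hg g' hg'
  have := inter_parity hB (by norm_num) hg hg' 0 (by rw [hα]; exact tri22')
  simpa using this

/-- A word of the span of the blocks has even weight. -/
theorem two_span : ∀ w ∈ spanC B, 2 ∣ hammingNorm w := by
  intro w hw
  have heven := even_inter22 hα hB
  induction hw using Submodule.span_induction with
  | mem x hx =>
    obtain ⟨g', hg', rfl⟩ := hx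
    rw [← card_supp, supp_ind, hB.1 g' hg']
    norm_num
  | zero => simp
  | add x y hx' hy' hx hy =>
    have h1 := wt_add x y
    omega
  | smul a x _ hx =>
    rcases eq_zero_or_one a with rfl | rfl
    · simp
    · simpa using hx

/-- Half the weight is a linear form on the span of the blocks. -/
noncomputable def halfWt (hα : Fintype.card α = 22) (hB : IsSteinerSystem 3 6 B) :
    spanC B →ₗ[ZMod 2] ZMod 2 where
  toFun w := ((hammingNorm w.1 / 2 : ℕ) : ZMod 2)
  map_add' := by
    rintro ⟨x, hx⟩ ⟨y, hy⟩
    have h1 := wt_add x y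
    have h2 := orth_span (even_inter22 hα hB) x hx y hy
    rw [dot_eq_card, ← even_iff_cast] at h2
    obtain ⟨c, hc⟩ := h2
    obtain ⟨a, ha⟩ := two_span hα hB x hx
    obtain ⟨b, hb⟩ := two_span hα hB y hy
    show ((hammingNorm (x + y) / 2 : ℕ) : ZMod 2) = ((hammingNorm x / 2 : ℕ) : ZMod 2)
      + ((hammingNorm y / 2 : ℕ) : ZMod 2)
    have h3 : hammingNorm (x + y) / 2 + 2 * c = a + b := by omega
    have h4 : hammingNorm x / 2 = a := by omega
    have h5 : hammingNorm y / 2 = b := by omega
    rw [h4, h5, ← Nat.cast_add, ← h3]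
    push_cast
    rw [show (2 : ZMod 2) = 0 from rfl, zero_mul, add_zero]
  map_smul' := by
    rintro a ⟨x, hx⟩
    rcases eq_zero_or_one a with rfl | rfl
    · simp
    · simp

/-- There is a set meeting every block in an odd number of points. -/
theorem exists_odd : ∃ V : Finset α, ∀ b ∈ B, Odd (V ∩ b).card := by
  obtain ⟨g, hg⟩ := LinearMap.exists_extend (halfWt hα hB)
  obtain ⟨v, hv⟩ := (dotProductEquiv (ZMod 2) α).surjective g
  refine ⟨supp v, fun b hb => ?_⟩
  have h1 : ind b ∈ spanC B := Submodule.subset_span (Set.mem_image_of_mem ind hb)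
  have h2 : g (ind b) = halfWt hα hB ⟨ind b, h1⟩ := by
    rw [← hg]
    rfl
  have h3 : halfWt hα hB ⟨ind b, h1⟩ = 1 := by
    show ((hammingNorm (ind b) / 2 : ℕ) : ZMod 2) = 1
    rw [← card_supp, supp_ind, hB.1 b hb]
    rfl
  have h4 : g (ind b) = ∑ i, v i * ind b i := by
    rw [← hv]
    rfl
  rw [h2, h3, dot_eq_card, supp_ind] at h4
  rw [← Nat.not_even_iff_odd, even_iff_cast, ← h4]
  decide

/-- A set of seven points meeting every block in an odd number of points. -/
theorem exists_seven : ∃ V : Finset α, V.card = 7 ∧ ∀ b ∈ B, Odd (V ∩ b).card := by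
  classical
  obtain ⟨V₀, hV₀⟩ := exists_odd hα hB
  let F : Finset (Finset α) := univ.filter (fun V => ∀ b ∈ B, Odd (V ∩ b).card)
  have hF : F.Nonempty := ⟨V₀, by simpa [F] using hV₀⟩
  obtain ⟨V, hVF, hmin⟩ := Finset.exists_min_image F Finset.card hF
  have hV : ∀ b ∈ B, Odd (V ∩ b).card := by simpa [F] using hVF
  refine ⟨V, ?_, hV⟩
  have heven := even_inter22 hα hB
  -- intersections have size one or three
  have hle : ∀ b ∈ B, (V ∩ b).card = 1 ∨ (V ∩ b).card = 3 := by
    intro b hb
    have h1 := hV b hb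
    have h2 : (V ∩ b).card ≤ 6 := by
      rw [← hB.1 b hb]
      exact card_le_card inter_subset_right
    have h3 : (V ∩ b).card ≠ 5 := by
      intro h5
      have hmem : symmDiff V b ∈ F := by
        simp only [F, mem_filter, mem_univ, true_and]
        intro c hc
        have h4 := dot_ind_ind (symmDiff V b) c
        rw [ind_symmDiff] at h4
        simp only [Pi.add_apply, add_mul, Finset.sum_add_distrib, dot_ind_ind] at h4
        rw [← Nat.not_even_iff_odd, even_iff_cast, ← h4, (even_iff_cast _).mp (heven b hb c hc)]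
        have h6 := (Nat.not_even_iff_odd.mpr (hV c hc))
        rw [even_iff_cast] at h6
        simpa using h6
      have h7 := hmin _ hmem
      have h8 := card_symmDiff_add V b
      rw [hB.1 b hb] at h8
      omega
    obtain ⟨n, hn⟩ := h1
    omega
  -- moments
  have hl2 : ∀ T : Finset α, T.card = 2 → ((blocksF B).filter (fun c => T ⊆ c)).card = 5 :=
    card_through_of_mul hB 2 5 (by norm_num) (by norm_num) (by norm_num) (by rw [hα]; decide)
  have hl3 : ∀ T : Finset α, T.card = 3 → ((blocksF B).filter (fun c => T ⊆ c)).card = 1 :=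
    card_through_of_mul hB 3 1 (by norm_num) (by norm_num) (by norm_num) (by rw [hα]; decide)
  have h2 := sum_choose_inter (B := B) V 2 5 hl2
  have h3 := sum_choose_inter (B := B) V 3 1 hl3
  have h4 : ∑ d ∈ blocksF B, Nat.choose (d ∩ V).card 2 = ∑ d ∈ blocksF B, 3 * Nat.choose (d ∩ V).card 3 := by
    apply Finset.sum_congr rfl
    intro d hd
    rcases hle d (mem_blocksF.mp hd) with h | h <;> rw [inter_comm, h] <;> decide
  rw [← Finset.mul_sum, h2, h3] at h4
  have h5 := Nat.choose_succ_right_eq V.card 2
  by_cases hm : 2 ≤ V.card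
  · have h6 : 0 < V.card.choose 2 := Nat.choose_pos hm
    have h7 : V.card.choose 2 * 5 = V.card.choose 2 * (V.card - 2) := by
      rw [← h5]
      linarith
    have h8 := Nat.eq_of_mul_eq_mul_left h6 h7
    omega
  · exfalso
    obtain ⟨c, hc, hWc⟩ := exists_block_inter_eq hB (by norm_num) (by omega) (W := V)
      (T := ∅) (by omega) (empty_subset _) (by
        rw [hα, card_empty]
        have h1 : V.card - 0 ≤ 1 := by omega
        generalize V.card - 0 = n at h1
        interval_cases n <;> decide +kernel)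
    have := hV c hc
    rw [hWc] at this
    simp at this

variable {V : Finset α} (hV7 : V.card = 7) (hV : ∀ b ∈ B, Odd (V ∩ b).card)
include hV7 hV

theorem gens_even : ∀ g ∈ gens22 B V, ∀ g' ∈ gens22 B V, Even (g ∩ g').card := by
  have hodd : ∀ b ∈ B, Even ((lift b ∩ vhat V : Finset (α ⊕ Fin 2))).card := by
    intro b hb
    rw [vhat, card_inter_disjSum, toLeft_lift]
    have h1 : (lift b : Finset (α ⊕ Fin 2)).toRight ∩ {0} = {0} := by
      ext j
      simp [lift]
    rw [h1, card_singleton, inter_comm]
    exact (hV b hb).add_one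
  have hself : Even ((vhat V ∩ vhat V : Finset (α ⊕ Fin 2))).card := by
    rw [inter_self, vhat, card_disjSum, hV7]
    decide
  rintro g (⟨b, hb, rfl⟩ | hg) g' (⟨c, hc, rfl⟩ | hg')
  · apply even_lift_inter
    apply inter_parity hB (by norm_num) hb hc
    rw [hα]
    exact tri22
  · rw [Set.mem_singleton_iff.mp hg']
    exact hodd b hb
  · rw [Set.mem_singleton_iff.mp hg, inter_comm]
    exact hodd c hc
  · rw [Set.mem_singleton_iff.mp hg, Set.mem_singleton_iff.mp hg']
    exact hself

theorem perp22_lift {W : Finset (α ⊕ Fin 2)} (hW : Perp (gens22 B V) W) {c : Finset α} (hc : c ∈ B) :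
    Even ((W.toLeft ∩ c).card + W.toRight.card) := by
  have := hW _ (Or.inl (Set.mem_image_of_mem lift hc))
  rwa [card_inter_lift] at this

theorem perp22_v {W : Finset (α ⊕ Fin 2)} (hW : Perp (gens22 B V) W) :
    Even ((W.toLeft ∩ V).card + (W.toRight ∩ {0}).card) := by
  have := hW (vhat V) (Or.inr rfl)
  rwa [vhat, card_inter_disjSum] at this

theorem small22 {W : Finset (α ⊕ Fin 2)} (hW : Perp (gens22 B V) W)
    (hr : Even W.toRight.card) (h4 : W.toLeft.card ≤ 3) : W.toLeft = ∅ := by
  by_contra hne
  obtain ⟨x, hx⟩ := Finset.nonempty_iff_ne_empty.mpr hne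
  have hT : ({x} : Finset α) ⊆ W.toLeft := by simpa using hx
  obtain ⟨c, hc, hWc⟩ := exists_block_inter_eq hB (by norm_num) (by omega) (W := W.toLeft)
    (by omega) hT (by
      rw [hα, card_singleton]
      have h1 : W.toLeft.card - 1 ≤ 2 := by omega
      generalize W.toLeft.card - 1 = n at h1
      interval_cases n <;> decide +kernel)
  have := perp22_lift hα hB hV7 hV hW hc
  rw [hWc, card_singleton] at this
  obtain ⟨a, ha⟩ := this
  obtain ⟨b, hb⟩ := hr
  omega

theorem reduce22 (W : Finset (α ⊕ Fin 2)) (hW : Perp (gens22 B V) W) :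
    W = ∅ ∨ ∃ g ∈ gens22 B V,
      (fun W : Finset (α ⊕ Fin 2) => W.toLeft.card + if Even W.toRight.card then 0 else 30)
        (symmDiff W g)
      < (fun W : Finset (α ⊕ Fin 2) => W.toLeft.card + if Even W.toRight.card then 0 else 30) W := by
  have hle2 := Finset.card_le_univ W.toRight
  simp only [Fintype.card_fin] at hle2
  by_cases hr : Even W.toRight.card
  · by_cases h4 : W.toLeft.card ≤ 3
    · have hl := small22 hα hB hV7 hV hW hr h4
      -- only the two extra points remain
      have hcases : W.toRight.card = 0 ∨ W.toRight.card = 2 := by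
        obtain ⟨a, ha⟩ := hr
        omega
      rcases hcases with h0 | h2
      · exact Or.inl (eq_empty_of_cards hl (card_eq_zero.mp h0))
      · exfalso
        have h5 := perp22_v hα hB hV7 hV hW
        have h6 : W.toRight = univ := by
          apply Finset.eq_univ_of_card
          rw [h2]
          rfl
        rw [hl, h6] at h5
        simp at h5
    · right
      obtain ⟨s, hsW, hs⟩ := Finset.exists_subset_card_eq (n := 3) (s := W.toLeft) (by omega)
      obtain ⟨c, ⟨hc, hsc⟩, -⟩ := hB.2 s hs
      refine ⟨lift c, Or.inl (Set.mem_image_of_mem lift hc), ?_⟩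
      have h1 := card_toLeft_symmDiff W c
      have h2 : 3 ≤ (W.toLeft ∩ c).card := hs ▸ card_le_card (subset_inter hsW hsc)
      have h3 := perp22_lift hα hB hV7 hV hW hc
      rw [hB.1 c hc] at h1
      have h5 : 4 ≤ (W.toLeft ∩ c).card := by
        obtain ⟨a, ha⟩ := h3
        obtain ⟨b, hb⟩ := hr
        omega
      have h6 : Even (symmDiff W (lift c)).toRight.card := by
        rw [toRight_symmDiff]
        have h7 := card_symmDiff_add W.toRight (lift c : Finset (α ⊕ Fin 2)).toRight
        obtain ⟨b, hb⟩ := hr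
        have h8 : (lift c : Finset (α ⊕ Fin 2)).toRight.card = 2 := by
          have : (lift c : Finset (α ⊕ Fin 2)).toRight = univ := by
            ext j
            simp [lift]
          rw [this]
          rfl
        rw [h8] at h7
        exact ⟨b + 1 - (W.toRight ∩ (lift c : Finset (α ⊕ Fin 2)).toRight).card, by omega⟩
      simp only [if_pos h6, if_pos hr]
      omega
  · right
    refine ⟨vhat V, Or.inr rfl, ?_⟩
    have h6 : Even (symmDiff W (vhat V)).toRight.card := by
      have h8 : (vhat V).toRight = {0} := by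
        rw [vhat, toRight_disjSum]
      rw [toRight_symmDiff, h8]
      have h7 := card_symmDiff_add W.toRight {0}
      rw [card_singleton] at h7
      obtain ⟨b, hb⟩ := Nat.not_even_iff_odd.mp hr
      exact ⟨b + 1 - (W.toRight ∩ {0}).card, by omega⟩
    simp only [if_pos h6, if_neg hr]
    have h9 : (symmDiff W (vhat V)).toLeft.card ≤ Fintype.card α := card_le_univ _
    omega

theorem no4_22 (W : Finset (α ⊕ Fin 2)) (h4 : W.card = 4) (hW : Perp (gens22 B V) W) : False := by
  have hle2 := Finset.card_le_univ W.toRight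
  simp only [Fintype.card_fin] at hle2
  have h5 := card_toLeft_add_card_toRight (u := W)
  have hcases : W.toRight.card = 0 ∨ W.toRight.card = 1 ∨ W.toRight.card = 2 := by omega
  rcases hcases with h0 | h1 | h2
  · have hl : W.toLeft.card = 4 := by omega
    obtain ⟨s, hsW, hs⟩ := Finset.exists_subset_card_eq (n := 3) (s := W.toLeft) (by omega)
    obtain ⟨c, ⟨hc, hsc⟩, -⟩ := hB.2 s hs
    have h3 := perp22_lift hα hB hV7 hV hW hc
    rw [h0, add_zero] at h3
    have h6 : 3 ≤ (W.toLeft ∩ c).card := hs ▸ card_le_card (subset_inter hsW hsc)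
    have h7 : (W.toLeft ∩ c).card ≤ 4 := hl ▸ card_le_card inter_subset_left
    have h8 : (W.toLeft ∩ c).card = 4 := by
      obtain ⟨a, ha⟩ := h3
      omega
    have h9 : W.toLeft ⊆ c := by
      rw [← inter_eq_left]
      exact eq_of_subset_of_card_le inter_subset_left (by omega)
    have hne : W.toLeft.Nonempty := by
      rw [← card_pos]
      omega
    obtain ⟨x, hx⟩ := hne
    obtain ⟨d, hd, hxd, hdisj⟩ := exists_block_contain_miss hB (by norm_num) hc
      (T := {x}) (U := W.toLeft \ {x})
      (by simpa using h9 hx) (sdiff_subset.trans h9) disjoint_sdiff (by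
        rw [hα, card_singleton, card_sdiff_of_subset (by simpa using hx), hl, card_singleton]
        decide +kernel)
    have h10 : W.toLeft ∩ d = {x} := by
      ext y
      simp only [mem_inter, mem_singleton]
      constructor
      · rintro ⟨hy, hyd⟩
        by_contra hne
        exact Finset.disjoint_left.mp hdisj hyd (by simp [hy, hne])
      · rintro rfl
        exact ⟨hx, by simpa using hxd⟩
    have h11 := perp22_lift hα hB hV7 hV hW hd
    rw [h10, h0] at h11
    simp at h11
  · have hl : W.toLeft.card = 3 := by omega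
    obtain ⟨T, hT, hTc⟩ := Finset.exists_subset_card_eq (n := 2) (s := W.toLeft) (by omega)
    obtain ⟨c, hc, hWc⟩ := exists_block_inter_eq hB (by norm_num) (by omega) (W := W.toLeft)
      (by omega) hT (by
        rw [hα, hl, hTc]
        decide +kernel)
    have := perp22_lift hα hB hV7 hV hW hc
    rw [hWc, hTc, h1] at this
    simp at this
    exact absurd this (by decide)
  · have hl := small22 hα hB hV7 hV hW (by rw [h2]; decide) (by omega)
    rw [hl] at h5
    simp at h5
    omega

theorem golayLike22 : GolayLike (spanC (gens22 B V)) := by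
  refine golayLike_span (by simp [hα]) ?_ (gens_even hα hB hV7 hV)
    (fun W => W.toLeft.card + if Even W.toRight.card then 0 else 30)
    (reduce22 hα hB hV7 hV) (no4_22 hα hB hV7 hV)
  rintro g (⟨b, hb, rfl⟩ | hg)
  · rw [card_lift, hB.1 b hb]
    simp
  · rw [Set.mem_singleton_iff.mp hg, vhat, card_disjSum, hV7]
    simp

end S22

end Cfsg.Agent.Lib.SteinerUniq.Cases
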