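import Cfsg.Agent.S0375
import Cfsg.Agent.Lib.Golay.Basic
import Cfsg.Agent.Lib.Steiner.Basic

/-!
The binary code spanned by a family of sets of size 8 with pairwise even intersections,
when reduction by the generators shows that it is self-dual, and its identification with the
length-24 code built from the squares modulo 23.
-/

set_option autoImplicit false
set_option linter.unusedSectionVars false

namespace Cfsg.Agent.Lib.SteinerUniq.Code

open Finset Module Cfsg
open Cfsg.Agent.Lib.GolayUnique.Dual

section Words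

variable {Z : Type*} [Fintype Z] [DecidableEq Z]

theorem ind_symmDiff (S T : Finset Z) : ind (symmDiff S T) = ind S + ind T := by
  funext i
  simp only [ind, Pi.add_apply, Finset.mem_symmDiff]
  by_cases h1 : i ∈ S <;> by_cases h2 : i ∈ T <;> simp [h1, h2]; decide

theorem dot_ind_ind (S T : Finset Z) : ∑ i, ind S i * ind T i = (((S ∩ T).card : ℕ) : ZMod 2) := by
  rw [dot_eq_card, supp_ind, supp_ind]

theorem even_iff_cast (n : ℕ) : Even n ↔ ((n : ℕ) : ZMod 2) = 0 :=
  (ZMod.natCast_eq_zero_iff_even).symm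

theorem card_symmDiff_add (S T : Finset Z) :
    (symmDiff S T).card + 2 * (S ∩ T).card = S.card + T.card := by
  have h := wt_add (ind S) (ind T)
  rw [← card_supp, ← card_supp, ← card_supp, supp_ind, supp_ind, ← ind_symmDiff, supp_ind] at h
  exact h

/-- Even intersection with every generator. -/
def Perp (G : Set (Finset Z)) (W : Finset Z) : Prop := ∀ g ∈ G, Even (W ∩ g).card

/-- The code spanned by a family of sets. -/
abbrev spanC (G : Set (Finset Z)) : Submodule (ZMod 2) (Z → ZMod 2) :=
  Submodule.span (ZMod 2) (ind '' G)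

variable {G : Set (Finset Z)}

theorem orth_span (heven : ∀ g ∈ G, ∀ g' ∈ G, Even (g ∩ g').card) :
    ∀ v ∈ spanC G, ∀ w ∈ spanC G, ∑ i, v i * w i = 0 := by
  have h1 : ∀ v ∈ spanC G, ∀ g ∈ G, ∑ i, v i * ind g i = 0 := by
    intro v hv g hg
    induction hv using Submodule.span_induction with
    | mem x hx =>
      obtain ⟨g', hg', rfl⟩ := hx
      rw [dot_ind_ind, ← even_iff_cast]
      exact heven g' hg' g hg
    | zero => simp
    | add x y _ _ hx hy =>
      simp only [Pi.add_apply, add_mul, Finset.sum_add_distrib, hx, hy, add_zero]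
    | smul a x _ hx =>
      simp only [Pi.smul_apply, smul_eq_mul, mul_assoc, ← Finset.mul_sum, hx, mul_zero]
  intro v hv w hw
  induction hw using Submodule.span_induction with
  | mem x hx =>
    obtain ⟨g', hg', rfl⟩ := hx
    exact h1 v hv g' hg'
  | zero => simp
  | add x y _ _ hx hy =>
    simp only [Pi.add_apply, mul_add, Finset.sum_add_distrib, hx, hy, add_zero]
  | smul a x _ hx =>
    have : ∀ i, v i * (a • x) i = a * (v i * x i) := by
      intro i
      simp only [Pi.smul_apply, smul_eq_mul]
      ring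
    simp only [this, ← Finset.mul_sum, hx, mul_zero]

theorem four_span (h8 : ∀ g ∈ G, 4 ∣ g.card)
    (heven : ∀ g ∈ G, ∀ g' ∈ G, Even (g ∩ g').card) :
    ∀ w ∈ spanC G, 4 ∣ hammingNorm w := by
  intro w hw
  induction hw using Submodule.span_induction with
  | mem x hx =>
    obtain ⟨g', hg', rfl⟩ := hx
    rw [← card_supp, supp_ind]
    exact h8 g' hg'
  | zero => simp
  | add x y hx' hy' hx hy =>
    have h1 := wt_add x y
    have h2 := orth_span heven x hx' y hy'
    rw [dot_eq_card, ← even_iff_cast] at h2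
    obtain ⟨k, hk⟩ := h2
    omega
  | smul a x _ hx =>
    rcases eq_zero_or_one a with rfl | rfl
    · simp
    · simpa using hx

theorem perp_symmDiff (heven : ∀ g ∈ G, ∀ g' ∈ G, Even (g ∩ g').card) {W g : Finset Z}
    (hW : Perp G W) (hg : g ∈ G) : Perp G (symmDiff W g) := by
  intro g' hg'
  have h1 := dot_ind_ind (symmDiff W g) g'
  rw [ind_symmDiff] at h1
  simp only [Pi.add_apply, add_mul, Finset.sum_add_distrib, dot_ind_ind] at h1
  rw [even_iff_cast, ← h1, (even_iff_cast _).mp (hW g' hg'), (even_iff_cast _).mp (heven g hg g' hg')]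
  simp

theorem perp_of_mem (heven : ∀ g ∈ G, ∀ g' ∈ G, Even (g ∩ g').card) {W : Finset Z}
    (hW : ind W ∈ spanC G) : Perp G W := by
  intro g hg
  have h1 := orth_span heven _ hW _ (Submodule.subset_span (Set.mem_image_of_mem ind hg))
  rwa [dot_ind_ind, ← even_iff_cast] at h1

theorem perp_of_dot {v : Z → ZMod 2} (hv : ∀ w ∈ spanC G, ∑ i, v i * w i = 0) :
    Perp G (supp v) := by
  intro g hg
  have h1 := hv _ (Submodule.subset_span (Set.mem_image_of_mem ind hg))
  rwa [dot_eq_card, supp_ind, ← even_iff_cast] at h1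

/-- Reduction by generators shows that a set with even intersections lies in the span. -/
theorem mem_span_of_perp (heven : ∀ g ∈ G, ∀ g' ∈ G, Even (g ∩ g').card)
    (μ : Finset Z → ℕ)
    (hred : ∀ W, Perp G W → W = ∅ ∨ ∃ g ∈ G, μ (symmDiff W g) < μ W) :
    ∀ W, Perp G W → ind W ∈ spanC G := by
  have key : ∀ n, ∀ W, μ W = n → Perp G W → ind W ∈ spanC G := by
    intro n
    induction n using Nat.strong_induction_on with
    | _ n ih =>
      intro W hn hW
      rcases hred W hW with rfl | ⟨g, hg, hlt⟩
      · have : ind (∅ : Finset Z) = 0 := by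
          funext i
          simp [ind]
        rw [this]
        exact Submodule.zero_mem _
      · have h1 := ih _ (hn ▸ hlt) _ rfl (perp_symmDiff heven hW hg)
        have h2 : ind g ∈ spanC G := Submodule.subset_span (Set.mem_image_of_mem ind hg)
        have h3 := Submodule.add_mem _ h1 h2
        rw [ind_symmDiff] at h3
        have h4 : ind W + ind g + ind g = ind W := by
          funext i
          simp only [Pi.add_apply]
          rw [add_assoc, CharTwo.add_self_eq_zero, add_zero]
        rwa [h4] at h3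
  exact fun W hW => key _ W rfl hW

/-- A self-orthogonal code containing its orthogonal space has half the dimension. -/
theorem two_mul_finrank (C : Submodule (ZMod 2) (Z → ZMod 2))
    (horth : ∀ v ∈ C, ∀ w ∈ C, ∑ i, v i * w i = 0)
    (hperp : ∀ v, (∀ w ∈ C, ∑ i, v i * w i = 0) → v ∈ C) :
    2 * finrank (ZMod 2) C = Fintype.card Z := by
  let φ := dotProductEquiv (ZMod 2) Z
  let A : Submodule (ZMod 2) (Z → ZMod 2) := C.dualAnnihilator.comap φ.toLinearMap
  have hdim : finrank (ZMod 2) A = finrank (ZMod 2) C.dualAnnihilator :=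
    LinearEquiv.finrank_eq (φ.ofSubmodule' C.dualAnnihilator)
  have hann := Subspace.finrank_add_finrank_dualAnnihilator_eq C
  have hfull : finrank (ZMod 2) (Z → ZMod 2) = Fintype.card Z := finrank_fintype_fun_eq_card _
  have hmem : ∀ x, x ∈ A ↔ ∀ w ∈ C, ∑ i, x i * w i = 0 := by
    intro x
    simp only [A, Submodule.mem_comap, Submodule.mem_dualAnnihilator]
    rfl
  have heq : C = A := by
    apply le_antisymm
    · intro x hx
      rw [hmem]
      exact fun w hw => horth x hx w hw
    · intro x hx
      exact hperp x ((hmem x).mp hx)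
  have h2 : finrank (ZMod 2) C = finrank (ZMod 2) A := by rw [← heq]
  omega

/-- The main criterion. -/
theorem golayLike_span (hcard : Fintype.card Z = 24) (h8 : ∀ g ∈ G, g.card = 8)
    (heven : ∀ g ∈ G, ∀ g' ∈ G, Even (g ∩ g').card)
    (μ : Finset Z → ℕ)
    (hred : ∀ W, Perp G W → W = ∅ ∨ ∃ g ∈ G, μ (symmDiff W g) < μ W)
    (hno4 : ∀ W : Finset Z, W.card = 4 → Perp G W → False) : GolayLike (spanC G) := by
  have horth := orth_span heven
  refine ⟨hcard, ?_, horth, four_span (fun g hg => by rw [h8 g hg]; norm_num) heven, ?_⟩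
  · have h := two_mul_finrank (spanC G) horth (fun v hv => by
      have := mem_span_of_perp heven μ hred _ (perp_of_dot hv)
      rwa [ind_supp] at this)
    omega
  · intro w hw h4
    refine hno4 (supp w) h4 (perp_of_mem heven ?_)
    rwa [ind_supp]

/-- Words of the code that vanish are the only ones of weight less than 8. -/
theorem eq_empty_of_card_lt {C : Submodule (ZMod 2) (Z → ZMod 2)} (hC : GolayLike C)
    {W : Finset Z} (hW : ind W ∈ C) (hlt : W.card < 8) : W = ∅ := by
  by_contra hne
  have h0 : ind W ≠ 0 := by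
    intro h
    apply hne
    have := supp_ind W
    rw [h] at this
    rw [← this]
    ext i
    simp [supp]
  have h1 := hC.eight_le hW h0
  rw [← card_supp, supp_ind] at h1
  omega

end Words

section Model

variable {Z : Type*} [Fintype Z] [DecidableEq Z]

theorem hamming_comp' {κ : Type*} [Fintype κ] (e : κ ≃ Z) (w : Z → ZMod 2) :
    hammingNorm (fun k => w (e k)) = hammingNorm w := by
  simp only [hammingNorm, Finset.card_filter]
  exact Equiv.sum_comp e (fun i => if w i ≠ 0 then 1 else 0)

/-- A code with the parameters of the Golay code on any set of 24 points is the model. -/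
theorem exists_equiv {C : Submodule (ZMod 2) (Z → ZMod 2)} (hC : GolayLike C) :
    ∃ e : Z ≃ GolayPt, ∀ w : GolayPt → ZMod 2, w ∈ golayCode ↔ (fun z => w (e z)) ∈ C := by
  have hZ : Fintype.card Z = 24 := hC.card
  let L : Z ≃ Fin 24 := Fintype.equivFinOfCardEq hZ
  let Ψ := LinearEquiv.funCongrLeft (ZMod 2) (ZMod 2) L
  -- `Ψ` sends a function on `Fin 24` to its composition with `L`.
  let C' : Submodule (ZMod 2) (Fin 24 → ZMod 2) := C.comap Ψ.toLinearMap
  have hmem : ∀ y : Fin 24 → ZMod 2, y ∈ C' ↔ (fun z => y (L z)) ∈ C := fun y => Iff.rfl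
  have hsurj : ∀ y : Z → ZMod 2, (fun k => y (L.symm k)) ∈ C' ↔ y ∈ C := by
    intro y
    rw [hmem]
    simp
  have hdim : finrank (ZMod 2) C' = 12 := by
    rw [← hC.dim]
    exact LinearEquiv.finrank_eq (Ψ.ofSubmodule' C)
  have horth : ∀ v ∈ C', ∀ w ∈ C', ∑ i, v i * w i = 0 := by
    intro v hv w hw
    have := hC.orth _ ((hmem v).mp hv) _ ((hmem w).mp hw)
    rw [← this]
    exact (Equiv.sum_comp L (fun p => v p * w p)).symm
  have h4 : ∀ w ∈ C', 4 ∣ hammingNorm w := by
    intro w hw
    have := hC.four _ ((hmem w).mp hw)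
    rwa [hamming_comp' L w] at this
  have hno4 : ∀ w ∈ C', hammingNorm w ≠ 4 := by
    intro w hw
    have := hC.no4 _ ((hmem w).mp hw)
    rwa [hamming_comp' L w] at this
  obtain ⟨e', he'⟩ := Cfsg.Agent.S0375.result C' hdim horth h4 hno4
  refine ⟨L.trans e', fun w => ?_⟩
  rw [he', hmem]
  rfl

/-- A frame: a bijection of the points with the model points, identifying the code with the
model code. -/
def Frame (C : Submodule (ZMod 2) (Z → ZMod 2)) (e : Z ≃ GolayPt) : Prop :=
  ∀ w : GolayPt → ZMod 2, w ∈ golayCode ↔ (fun z => w (e z)) ∈ C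

theorem ind_image (e : Z ≃ GolayPt) (W : Finset Z) :
    (fun z => ind (W.image e) (e z)) = ind W := by
  funext z
  simp only [ind]
  congr 1
  simp

theorem support₂_ind (S : Finset GolayPt) : support₂ (ind S) = S := supp_ind S

theorem mem_octads_iff_ind {o : Finset GolayPt} : o ∈ octads ↔ o.card = 8 ∧ ind o ∈ golayCode := by
  constructor
  · rintro ⟨⟨w, hw, rfl⟩, h8⟩
    refine ⟨h8, ?_⟩
    have : ind (support₂ w) = w := ind_supp w
    rw [this]
    exact hw
  · rintro ⟨h8, hw⟩
    exact ⟨⟨ind o, hw, supp_ind o⟩, h8⟩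

theorem image_mem_octads {C : Submodule (ZMod 2) (Z → ZMod 2)} {e : Z ≃ GolayPt} (he : Frame C e)
    (W : Finset Z) : W.image e ∈ octads ↔ W.card = 8 ∧ ind W ∈ C := by
  rw [mem_octads_iff_ind, he, ind_image, Finset.card_image_of_injective _ e.injective]

end Model

section Steiner

variable {α : Type*} [Fintype α] [DecidableEq α] {t k : ℕ} {B : Set (Finset α)}

open Cfsg.Agent.Lib.Steiner.Basic

/-- A set of at most `t` points lies in a block. -/
theorem exists_block_of_card_le (hB : IsSteinerSystem t k B) (htc : t ≤ Fintype.card α)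
    {s : Finset α} (hs : s.card ≤ t) : ∃ b ∈ B, s ⊆ b := by
  obtain ⟨s', hss', hs'⟩ := Finset.exists_superset_card_eq hs htc
  obtain ⟨b, ⟨hb, hsb⟩, -⟩ := hB.2 s' hs'
  exact ⟨b, hb, hss'.trans hsb⟩

/-- A positive entry of the Leech triangle gives a block. -/
theorem exists_block_contain_miss (hB : IsSteinerSystem t k B) (htk : t ≤ k) {b : Finset α}
    (hb : b ∈ B) {T U : Finset α} (hT : T ⊆ b) (hU : U ⊆ b) (hTU : Disjoint T U)
    (hpos : 0 < tri (Fintype.card α) k t T.card U.card) :
    ∃ c ∈ B, T ⊆ c ∧ Disjoint c U := by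
  rw [← card_contain_miss hB htk hb U T hT hU hTU, Finset.card_pos] at hpos
  obtain ⟨c, hc⟩ := hpos
  rw [mem_filter, mem_blocksF] at hc
  exact ⟨c, hc.1, hc.2⟩

/-- A block meeting a small set in a prescribed part. -/
theorem exists_block_inter_eq (hB : IsSteinerSystem t k B) (htk : t ≤ k) (htc : t ≤ Fintype.card α)
    {W T : Finset α} (hW : W.card ≤ t) (hT : T ⊆ W)
    (hpos : 0 < tri (Fintype.card α) k t T.card (W.card - T.card)) :
    ∃ c ∈ B, W ∩ c = T := by
  obtain ⟨b, hb, hWb⟩ := exists_block_of_card_le hB htc hW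
  have hsd : (W \ T).card = W.card - T.card := Finset.card_sdiff_of_subset hT
  obtain ⟨c, hc, hTc, hd⟩ := exists_block_contain_miss hB htk hb (T := T) (U := W \ T)
    (hT.trans hWb) (sdiff_subset.trans hWb) disjoint_sdiff (by rwa [hsd])
  refine ⟨c, hc, ?_⟩
  ext x
  rw [mem_inter]
  constructor
  · rintro ⟨hx, hxc⟩
    by_contra hxT
    exact Finset.disjoint_left.mp hd hxc (mem_sdiff.mpr ⟨hx, hxT⟩)
  · intro hx
    exact ⟨hT hx, hTc hx⟩

end Steiner

end Cfsg.Agent.Lib.SteinerUniq.Code
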