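import Cfsg.Agent.Lib.SteinerUniq.Code
import Cfsg.Agent.Lib.Golay.Stab

/-!
Systems on `α` embedded in the octads of the model through a bijection `α ⊕ J ≃ GolayPt`: a block
`b` corresponds to the octad `b ⊔ J`. Isomorphism of two such systems, and the subgroup of the
automorphism group given by the elements of the group of the code fixing the points of `J`.
-/

set_option autoImplicit false
set_option linter.unusedSectionVars false

namespace Cfsg.Agent.Lib.SteinerUniq.Lift

open Finset Module Cfsg
open Cfsg.Agent.Lib.GolayUnique.Dual Cfsg.Agent.Lib.SteinerUniq.Code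
open Cfsg.Agent.Lib.Golay.Perm
open scoped Pointwise

variable {α β J : Type*} [Fintype α] [DecidableEq α] [Fintype β] [DecidableEq β]
  [Fintype J] [DecidableEq J]

/-- The lift of a set: all the extra points are added. -/
def lift (b : Finset α) : Finset (α ⊕ J) := b.disjSum univ

theorem card_lift (b : Finset α) : (lift b : Finset (α ⊕ J)).card = b.card + Fintype.card J := by
  rw [lift, card_disjSum, card_univ]

@[simp] theorem toLeft_lift (b : Finset α) : (lift b : Finset (α ⊕ J)).toLeft = b := toLeft_disjSum

theorem lift_injective : Function.Injective (lift : Finset α → Finset (α ⊕ J)) := by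
  intro b c h
  have := congrArg toLeft h
  simpa using this

theorem card_inter_lift (W : Finset (α ⊕ J)) (b : Finset α) :
    (W ∩ lift b).card = (W.toLeft ∩ b).card + W.toRight.card := by
  rw [← card_toLeft_add_card_toRight (u := W ∩ lift b), toLeft_inter, toRight_inter, toLeft_lift]
  congr 2
  ext x
  simp [lift]

theorem toLeft_symmDiff (U V : Finset (α ⊕ J)) :
    (symmDiff U V).toLeft = symmDiff U.toLeft V.toLeft := by
  ext x
  simp [Finset.mem_symmDiff]

theorem toRight_symmDiff (U V : Finset (α ⊕ J)) :
    (symmDiff U V).toRight = symmDiff U.toRight V.toRight := by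
  ext x
  simp [Finset.mem_symmDiff]

/-- Through a bijection with the model points, the blocks are the octads with all the extra
points. -/
def Framed (B : Set (Finset α)) (e : α ⊕ J ≃ GolayPt) : Prop :=
  ∀ b : Finset α, b ∈ B ↔ (lift b).image e ∈ octads

theorem image_trans (e : α ⊕ J ≃ GolayPt) (σ : Equiv.Perm GolayPt) (W : Finset (α ⊕ J)) :
    W.image (e.trans σ) = σ • W.image e := by
  ext x
  simp only [Finset.mem_smul_finset, Finset.mem_image, Equiv.trans_apply]
  constructor
  · rintro ⟨z, hz, rfl⟩
    exact ⟨_, ⟨z, hz, rfl⟩, rfl⟩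
  · rintro ⟨_, ⟨z, hz, rfl⟩, rfl⟩
    exact ⟨z, hz, rfl⟩

theorem Framed.trans {B : Set (Finset α)} {e : α ⊕ J ≃ GolayPt} (hF : Framed B e)
    {σ : Equiv.Perm GolayPt} (hσ : σ ∈ M24) : Framed B (e.trans σ) := by
  intro b
  rw [hF b, image_trans, smul_mem_octads_iff hσ]

/-- A bijection fixing the extra points restricts to the other points. -/
def restrict (f : α ⊕ J ≃ β ⊕ J) (hf : ∀ j, f (Sum.inr j) = Sum.inr j) : α ≃ β := by
  have h1 : ∀ a, (f (Sum.inl a)).isLeft = true := by
    intro a
    rcases h : f (Sum.inl a) with x | j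
    · rfl
    · rw [← hf j] at h
      exact absurd (f.injective h) (by simp)
  have hf' : ∀ j, f.symm (Sum.inr j) = Sum.inr j := by
    intro j
    rw [Equiv.symm_apply_eq, hf]
  have h2 : ∀ a, (f.symm (Sum.inl a)).isLeft = true := by
    intro a
    rcases h : f.symm (Sum.inl a) with x | j
    · rfl
    · rw [← hf' j] at h
      exact absurd (f.symm.injective h) (by simp)
  exact
    { toFun := fun a => (f (Sum.inl a)).getLeft (h1 a)
      invFun := fun a => (f.symm (Sum.inl a)).getLeft (h2 a)
      left_inv := fun a => by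
        simp only [Sum.inl_getLeft, Equiv.symm_apply_apply, Sum.getLeft_inl]
      right_inv := fun a => by
        simp only [Sum.inl_getLeft, Equiv.apply_symm_apply, Sum.getLeft_inl] }

theorem inl_restrict (f : α ⊕ J ≃ β ⊕ J) (hf : ∀ j, f (Sum.inr j) = Sum.inr j) (a : α) :
    Sum.inl (restrict f hf a) = f (Sum.inl a) := by
  simp [restrict]

theorem image_lift_restrict (f : α ⊕ J ≃ β ⊕ J) (hf : ∀ j, f (Sum.inr j) = Sum.inr j)
    (b : Finset α) : (lift b).image f = lift (b.image (restrict f hf)) := by
  ext x
  rcases x with y | j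
  · simp only [mem_image, lift, inl_mem_disjSum]
    constructor
    · rintro ⟨z, hz, hzy⟩
      rcases z with a | j
      · refine ⟨a, inl_mem_disjSum.mp hz, ?_⟩
        apply Sum.inl_injective
        rw [inl_restrict, hzy]
      · rw [hf] at hzy
        simp at hzy
    · rintro ⟨a, ha, rfl⟩
      exact ⟨Sum.inl a, inl_mem_disjSum.mpr ha, (inl_restrict f hf a).symm⟩
  · simp only [mem_image, lift, inr_mem_disjSum, mem_univ, iff_true]
    exact ⟨Sum.inr j, inr_mem_disjSum.mpr (mem_univ _), hf j⟩

/-- Two systems with frames agreeing on the extra points are isomorphic. -/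
theorem iso_of_framed {B : Set (Finset α)} {B' : Set (Finset β)} {e : α ⊕ J ≃ GolayPt}
    {e' : β ⊕ J ≃ GolayPt} (hF : Framed B e) (hF' : Framed B' e')
    (hee : ∀ j, e (Sum.inr j) = e' (Sum.inr j)) : SetSystemIso B B' := by
  let f : α ⊕ J ≃ β ⊕ J := e.trans e'.symm
  have hf : ∀ j, f (Sum.inr j) = Sum.inr j := by
    intro j
    simp [f, hee j]
  let φ := restrict f hf
  have himg : ∀ b : Finset α, (lift b).image e = (lift (b.image φ)).image e' := by
    intro b
    rw [← image_lift_restrict f hf b, Finset.image_image]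
    congr 1
    ext x
    simp [f]
  have hiff : ∀ b : Finset α, b ∈ B ↔ b.image φ ∈ B' := by
    intro b
    rw [hF b, hF' _, himg]
  refine ⟨φ, ?_⟩
  ext c
  simp only [Set.mem_image]
  constructor
  · rintro ⟨b, hb, rfl⟩
    exact (hiff b).mp hb
  · intro hc
    refine ⟨c.image φ.symm, (hiff _).mpr ?_, ?_⟩
    · rw [Finset.image_image]
      simpa using hc
    · rw [Finset.image_image]
      simp

/-- Extension by the identity on the extra points, conjugated to the model. -/
def Theta (e : α ⊕ J ≃ GolayPt) : Equiv.Perm α →* Equiv.Perm GolayPt where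
  toFun g := e.symm.trans ((Equiv.sumCongr g (Equiv.refl J)).trans e)
  map_one' := by
    ext x
    simp
  map_mul' g h := by
    ext x
    simp only [Equiv.trans_apply, Equiv.Perm.mul_apply, Equiv.symm_apply_apply]
    rcases e.symm x with a | j <;> simp

theorem Theta_inl (e : α ⊕ J ≃ GolayPt) (g : Equiv.Perm α) (a : α) :
    Theta e g (e (Sum.inl a)) = e (Sum.inl (g a)) := by
  simp [Theta]

theorem Theta_inr (e : α ⊕ J ≃ GolayPt) (g : Equiv.Perm α) (j : J) :
    Theta e g (e (Sum.inr j)) = e (Sum.inr j) := by
  simp [Theta]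

theorem Theta_injective (e : α ⊕ J ≃ GolayPt) : Function.Injective (Theta e) := by
  intro g h hgh
  ext a
  have := congrArg (fun k => k (e (Sum.inl a))) hgh
  simp only [Theta_inl] at this
  simpa using this

theorem smul_lift (e : α ⊕ J ≃ GolayPt) (g : Equiv.Perm α) (b : Finset α) :
    Theta e g • (lift b).image e = (lift (g • b)).image e := by
  ext x
  rw [Finset.mem_smul_finset]
  constructor
  · rintro ⟨y, hy, rfl⟩
    obtain ⟨z, hz, rfl⟩ := Finset.mem_image.mp hy
    rw [Finset.mem_image]
    rcases z with a | j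
    · refine ⟨Sum.inl (g a), ?_, (Theta_inl e g a).symm⟩
      rw [lift, inl_mem_disjSum]
      exact Finset.smul_mem_smul_finset (inl_mem_disjSum.mp hz)
    · refine ⟨Sum.inr j, ?_, (Theta_inr e g j).symm⟩
      rw [lift, inr_mem_disjSum]
      exact mem_univ _
  · intro hx
    obtain ⟨z, hz, rfl⟩ := Finset.mem_image.mp hx
    rcases z with a | j
    · rw [lift, inl_mem_disjSum, Finset.mem_smul_finset] at hz
      obtain ⟨a', ha', rfl⟩ := hz
      refine ⟨e (Sum.inl a'), Finset.mem_image_of_mem _ ?_, Theta_inl e g a'⟩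
      rw [lift, inl_mem_disjSum]
      exact ha'
    · refine ⟨e (Sum.inr j), Finset.mem_image_of_mem _ ?_, Theta_inr e g j⟩
      rw [lift, inr_mem_disjSum]
      exact mem_univ _

theorem mem_aut_iff {B : Set (Finset α)} {g : Equiv.Perm α} :
    g ∈ setSystemAut B ↔ ∀ b, g • b ∈ B ↔ b ∈ B := by
  rw [MulAction.mem_stabilizer_iff]
  constructor
  · intro h b
    constructor
    · intro hb
      rw [← h] at hb
      rw [Set.mem_smul_set_iff_inv_smul_mem] at hb
      simpa using hb
    · intro hb
      rw [← h]
      exact Set.smul_mem_smul_set hb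
  · intro h
    ext b
    rw [Set.mem_smul_set_iff_inv_smul_mem, ← h (g⁻¹ • b)]
    simp

/-- The automorphisms given by the group of the code. -/
def H (e : α ⊕ J ≃ GolayPt) : Subgroup (Equiv.Perm α) := M24.comap (Theta e)

/-- The elements of the group of the code fixing the extra points. -/
def K (e : α ⊕ J ≃ GolayPt) : Subgroup (Equiv.Perm GolayPt) where
  carrier := {h | h ∈ M24 ∧ ∀ j, h (e (Sum.inr j)) = e (Sum.inr j)}
  one_mem' := ⟨M24.one_mem, fun _ => rfl⟩
  mul_mem' := by
    rintro a b ⟨ha, ha'⟩ ⟨hb, hb'⟩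
    refine ⟨M24.mul_mem ha hb, fun j => ?_⟩
    rw [Equiv.Perm.mul_apply, hb', ha']
  inv_mem' := by
    rintro a ⟨ha, ha'⟩
    refine ⟨M24.inv_mem ha, fun j => ?_⟩
    rw [Equiv.Perm.inv_eq_iff_eq, ha']

theorem H_le_aut {B : Set (Finset α)} {e : α ⊕ J ≃ GolayPt} (hF : Framed B e) :
    H e ≤ setSystemAut B := by
  intro g hg
  rw [mem_aut_iff]
  intro b
  rw [hF b, hF _, ← smul_lift, smul_mem_octads_iff hg]

/-- The restriction to the points of `α` of a perm of the model points fixing the extra points. -/
def unTheta (e : α ⊕ J ≃ GolayPt) (h : Equiv.Perm GolayPt)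
    (hj : ∀ j, h (e (Sum.inr j)) = e (Sum.inr j)) : Equiv.Perm α :=
  restrict (e.trans (h.trans e.symm)) (fun j => by simp [hj j])

theorem Theta_unTheta (e : α ⊕ J ≃ GolayPt) (h : Equiv.Perm GolayPt)
    (hj : ∀ j, h (e (Sum.inr j)) = e (Sum.inr j)) : Theta e (unTheta e h hj) = h := by
  ext x
  obtain ⟨z, rfl⟩ := e.surjective x
  rcases z with a | j
  · rw [Theta_inl, unTheta, inl_restrict]
    simp
  · rw [Theta_inr, hj]

/-- The subgroup `H` is isomorphic to the fixer of the extra points in the group of the code. -/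
noncomputable def equivK (e : α ⊕ J ≃ GolayPt) : H e ≃* K e :=
  MulEquiv.ofBijective
    ({ toFun := fun g => ⟨Theta e g.1, g.2, fun j => Theta_inr e g.1 j⟩
       map_one' := by
        apply Subtype.ext
        simp
       map_mul' := fun x y => by
        apply Subtype.ext
        simp } : H e →* K e)
    (by
      constructor
      · intro x y hxy
        apply Subtype.ext
        exact Theta_injective e (congrArg (fun z => z.1) hxy)
      · rintro ⟨h, hM, hj⟩
        refine ⟨⟨unTheta e h hj, ?_⟩, ?_⟩
        · show Theta e (unTheta e h hj) ∈ M24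
          rwa [Theta_unTheta]
        · apply Subtype.ext
          exact Theta_unTheta e h hj)

/-- The map of words induced by a perm. -/
theorem comp_symm_ind {Z : Type*} [Fintype Z] [DecidableEq Z] (π : Equiv.Perm Z) (g : Finset Z) :
    (ind g ∘ π.symm) = ind (g.image π) := by
  funext z
  simp only [Function.comp, ind, Finset.mem_image]
  congr 1
  apply propext
  constructor
  · intro h
    exact ⟨_, h, by simp⟩
  · rintro ⟨y, hy, rfl⟩
    simpa using hy

/-- A perm mapping the generators into the code preserves the code. -/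
theorem comp_symm_mem_span {Z : Type*} [Fintype Z] [DecidableEq Z] {G : Set (Finset Z)}
    (π : Equiv.Perm Z) (hπ : ∀ g ∈ G, ind (g.image π) ∈ spanC G) {u : Z → ZMod 2}
    (hu : u ∈ spanC G) : u ∘ π.symm ∈ spanC G := by
  induction hu using Submodule.span_induction with
  | mem x hx =>
    obtain ⟨g, hg, rfl⟩ := hx
    rw [comp_symm_ind]
    exact hπ g hg
  | zero =>
    have : (0 : Z → ZMod 2) ∘ π.symm = 0 := rfl
    rw [this]
    exact Submodule.zero_mem _
  | add x y _ _ hx hy =>
    have : (x + y) ∘ π.symm = x ∘ π.symm + y ∘ π.symm := rfl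
    rw [this]
    exact Submodule.add_mem _ hx hy
  | smul a x _ hx =>
    have : (a • x) ∘ π.symm = a • (x ∘ π.symm) := rfl
    rw [this]
    exact Submodule.smul_mem _ _ hx

/-- A perm of the coordinates preserving the code on the generators gives an element of the
group of the model. -/
theorem conj_mem_M24 {Z : Type*} [Fintype Z] [DecidableEq Z] {G : Set (Finset Z)}
    {e : Z ≃ GolayPt} (he : Frame (spanC G) e) (π : Equiv.Perm Z)
    (hπ : ∀ g ∈ G, ind (g.image π) ∈ spanC G) : e.symm.trans (π.trans e) ∈ M24 := by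
  apply mem_M24_of_comp
  intro w hw
  rw [he]
  have h1 := comp_symm_mem_span π hπ ((he w).mp hw)
  convert h1 using 1
  funext z
  simp

/-- Five-fold transitivity, in the form used below. -/
theorem exists_M24_tuple {k : ℕ} (hk : k ≤ 5) (x y : Fin k ↪ GolayPt) :
    ∃ σ ∈ M24, ∀ i, σ (x i) = y i := Cfsg.Agent.Lib.Golay.Stab.exists_map_tuple hk x y

end Cfsg.Agent.Lib.SteinerUniq.Lift
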